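import Cfsg.Agent.Lib.CGT57.OddAut

/-!
# Subgroups of a Sylow subgroup normalised by a block
-/

set_option autoImplicit false
set_option linter.style.haveILetI false
set_option linter.unusedSectionVars false

open Cfsg
open scoped commutatorElement

namespace Cfsg.Agent.Lib.AutPush69

open Cfsg.Agent.Lib.LAEven57.Blocks
open Cfsg.Agent.Lib.CGT57 (cj mem_cj core_eq_W1)

universe u

variable {G : Type u} [Group G] [Finite G]

/-- An odd element with a commuting involutory displacement commutes. -/
theorem commute_of_shift {x e c : G} (he : Odd (orderOf e)) (hc : c * c = 1) (hce : Commute c e)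
    (h : x * e * x⁻¹ = c * e) : c = 1 := by
  have h1 : (c * e) ^ orderOf e = 1 := by
    rw [← h, conj_pow, pow_orderOf_eq_one, mul_one, mul_inv_cancel]
  rw [hce.mul_pow, pow_orderOf_eq_one, mul_one] at h1
  have h2 : orderOf c ∣ 2 := orderOf_dvd_of_pow_eq_one (by rw [sq, hc])
  exact orderOf_eq_one_iff.1 (Nat.eq_one_of_dvd_coprimes (Nat.coprime_two_left.2 he) h2
    (orderOf_dvd_of_pow_eq_one h1))

/-- A subgroup of a `2`-group equal to its commutator with the group is trivial. -/
theorem eq_bot_of_le_commutator {U P : Subgroup G} (hP : IsPGroup 2 ↥P) (hUP : U ≤ P) (h : U ≤ ⁅U, P⁆) :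
    U = ⊥ := by
  haveI : Fact (Nat.Prime 2) := ⟨Nat.prime_two⟩
  haveI : Group.IsNilpotent ↥P := hP.isNilpotent
  have key : ∀ n, U ≤ P.lowerCentralSeries n := fun n => by
    induction n with
    | zero => simpa using hUP
    | succ n ih => exact h.trans (Subgroup.commutator_mono ih le_rfl)
  obtain ⟨n, hn⟩ := (Subgroup.isNilpotent_iff_lowerCentralSeries P).1 inferInstance
  exact le_bot_iff.1 (hn ▸ key n)

variable {T : Sylow 2 G} (D : CGT57.Family T)
  (hG : Subgroup.centralizer (Cfsg.pCore 2 G : Set G) ≤ Cfsg.pCore 2 G)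

include hG in
/-- A subgroup of `T` normalised by `T` and the block, moving it, contains the module and commutes with it modulo
`C(E)`. -/
theorem hP {P : Subgroup G} (hPT : P ≤ (T : Subgroup G)) (hEP : D.E ≤ Subgroup.normalizer (P : Set G))
    (hTP : (T : Subgroup G) ≤ Subgroup.normalizer (P : Set G)) (hne : ⁅P, D.E⁆ ≠ ⊥) :
    D.W ≤ P ∧ ⁅D.W, P⁆ ≤ Subgroup.centralizer (D.E : Set G) := by
  have hE := D.isBlk D.hE
  have hP2 : IsPGroup 2 ↥P := T.isPGroup'.to_le hPT
  -- `P` normalises the block
  have hPN : P ≤ Subgroup.normalizer (D.E : Set G) := fun x hx => by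
    refine Subgroup.mem_normalizer_iff_map_conj_eq.2 ?_
    by_contra hne'
    set E' := D.E.map (MulAut.conj x).toMonoidHom with hE'
    have hcom := D.hcomm _ (D.hconj _ D.hE x (hPT hx)) _ D.hE hne'
    refine hne' (Subgroup.eq_of_le_of_card_ge ?_ (Subgroup.card_map_of_injective
      (show Function.Injective (MulAut.conj x).toMonoidHom from (MulAut.conj x).injective)).ge).symm.symm
    rw [Subgroup.map_le_iff_le_comap]
    refine le_of_coprime_gen hE fun e he heo => ?_
    rw [Nat.coprime_two_right] at heo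
    show x * e * x⁻¹ ∈ D.E
    set e' := x * e * x⁻¹
    have hc : Commute e' e := by
      have := Subgroup.commutator_mem_commutator (show e' ∈ E' from ⟨e, he, rfl⟩) he
      rw [hcom, Subgroup.mem_bot, commutatorElement_eq_one_iff_mul_comm] at this
      exact this
    have hp : e' * e⁻¹ ∈ P := by
      rw [show e' * e⁻¹ = x * (e * x⁻¹ * e⁻¹) by simp only [e']; group]
      exact P.mul_mem hx ((Subgroup.mem_normalizer_iff.1 (hEP he) _).1 (P.inv_mem hx))
    have h1 : (orderOf (e' * e⁻¹)).Coprime 2 := by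
      refine Nat.Coprime.coprime_dvd_left hc.inv_right.orderOf_mul_dvd_mul_orderOf ?_
      rw [orderOf_inv, show e' = (MulAut.conj x).toMonoidHom e from rfl,
        orderOf_injective _ (show Function.Injective (MulAut.conj x).toMonoidHom from (MulAut.conj x).injective)]
      exact Nat.coprime_two_right.2 (heo.mul heo)
    rw [show e' = e from mul_inv_eq_one.1 (eq_one_of_coprime hP2 hp h1)]
    exact he
  have hEPW : ∀ x ∈ P, ∀ e ∈ D.E, ⁅x, e⁆ ∈ W1 2 D.E := fun x hx e he => by
    rw [← core_eq_W1 hE]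
    refine CharP.le_pCoreOf (N := D.E ⊓ P) (hP2.to_le inf_le_right) inf_le_left
      (CharP.le_normalizer_inf Subgroup.le_normalizer hEP) ⟨?_, ?_⟩
    · rw [commutatorElement_def]
      exact D.E.mul_mem ((Subgroup.mem_normalizer_iff.1 (hPN hx) e).1 he) (D.E.inv_mem he)
    · rw [show ⁅x, e⁆ = x * (e * x⁻¹ * e⁻¹) by rw [commutatorElement_def]; group]
      exact P.mul_mem hx ((Subgroup.mem_normalizer_iff.1 (hEP he) _).1 (P.inv_mem hx))
  have hle : ⁅P, D.E⁆ ≤ W1 2 D.E := Subgroup.commutator_le.2 hEPW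
  have hW1P : W1 2 D.E ≤ P := by
    rcases irred hE hle (Subgroup.normalizer_commutator_ge_right P D.E) with h | h
    · exfalso
      refine hne (Subgroup.commutator_eq_bot_iff_le_centralizer.2 fun x hx => ?_)
      refine Subgroup.mem_centralizer_iff.2 fun e he => ?_
      have h' : D.E ≤ Subgroup.centralizer ({x} : Set G) := by
        refine le_of_coprime_gen hE fun e he heo => Subgroup.mem_centralizer_singleton_iff.2 ?_
        rw [Nat.coprime_two_right] at heo
        have hcm : ⁅x, e⁆ ∈ ⁅P, D.E⁆ := Subgroup.commutator_mem_commutator hx he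
        have h2 : Commute ⁅x, e⁆ e := (Subgroup.mem_centralizer_iff.1 (h hcm) e he).symm
        have h3 : ⁅x, e⁆ * ⁅x, e⁆ = 1 := by rw [← sq]; exact W1_pow (hle hcm)
        have h4 := commute_of_shift (x := x) heo h3 h2 (by rw [commutatorElement_def]; group)
        exact (commutatorElement_eq_one_iff_mul_comm.1 h4).symm
      exact Subgroup.mem_centralizer_singleton_iff.1 (h' he)
    · rw [← h]
      exact Subgroup.le_normalizer_iff_commutator_le_left.1 hEP
  have hWP : D.W ≤ P := iSup₂_le fun F hF => by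
    obtain ⟨s, hs, rfl⟩ := D.htrans F hF
    rw [← CGT57.cj_W1]
    exact (Subgroup.map_mono hW1P).trans (Subgroup.mem_normalizer_iff_map_conj_eq.1 (hTP hs)).le
  refine ⟨hWP, Subgroup.commutator_le.2 fun w hw x hx => ?_⟩
  have hCn : ∀ {g : G}, g ∈ Subgroup.normalizer (D.E : Set G) → ∀ u ∈ Subgroup.centralizer (D.E : Set G),
      g * u * g⁻¹ ∈ Subgroup.centralizer (D.E : Set G) := fun hg u hu => CGT57.conj_mem_centralizer hg hu
  have hU : ⁅W1 2 D.E, P⁆ ≤ Subgroup.centralizer (D.E : Set G) := by
    have hUW : ⁅W1 2 D.E, P⁆ ≤ W1 2 D.E := Subgroup.commutator_le.2 fun u hu y hy => by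
      rw [show ⁅u, y⁆ = u * (y * u⁻¹ * y⁻¹) by rw [commutatorElement_def]; group]
      exact mul_mem hu (conj_W1 (hPN hy) (inv_mem hu))
    have hEU : D.E ≤ Subgroup.normalizer ((⁅W1 2 D.E, P⁆ : Subgroup G) : Set G) := fun e he =>
      Subgroup.mem_normalizer_iff_map_conj_eq.2 (by
        rw [Subgroup.map_commutator, Subgroup.mem_normalizer_iff_map_conj_eq.1 (hEP he)]
        congr 1
        exact Subgroup.mem_normalizer_iff_map_conj_eq.1 (Baumann.mem_normalizer_of_forall fun u hu =>
          conj_W1 (Subgroup.le_normalizer he) hu))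
    rcases irred hE hUW hEU with h | h
    · exact h
    · exfalso
      have := eq_bot_of_le_commutator hP2 hW1P h.ge
      exact not_centralised hE (this.le.trans bot_le)
  obtain ⟨a, ha, r, hr, rfl⟩ := D.split D.hE hw
  rw [show ⁅a * r, x⁆ = a * ⁅r, x⁆ * a⁻¹ * ⁅a, x⁆ by simp only [commutatorElement_def]; group]
  refine mul_mem (hCn (Subgroup.le_normalizer ((CharP.pCoreOf_le 2 D.E) (W1_le_core 2 D.E ha))) _ ?_)
    (hU (Subgroup.commutator_mem_commutator ha hx))
  rw [show ⁅r, x⁆ = r * (x * r⁻¹ * x⁻¹) by rw [commutatorElement_def]; group]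
  exact mul_mem hr.2 (hCn (hPN hx) _ (inv_mem hr.2))

end Cfsg.Agent.Lib.AutPush69
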