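import Cfsg.Agent.Lib.CGT57.OddAut
import Cfsg.Agent.Lib.QTSetup.Char2
import Cfsg.Prelude.Def_Quasithin

/-!
# Conjugation restricted to a normalised subgroup, and oddly generated subgroups
-/

set_option autoImplicit false
set_option linter.style.haveILetI false
set_option linter.unusedSectionVars false

open Cfsg
open scoped commutatorElement

namespace Cfsg.Agent.Lib.AutPush69

open Cfsg.Agent.Lib.CGT57 (cj mem_cj cj_cj img mem_img)

universe u

variable {G : Type u} [Group G]

theorem oddGenerated_le (H : Subgroup G) : oddGenerated H ≤ H := (Subgroup.closure_le _).2 fun _ h => h.1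

variable [Finite G]

theorem le_normalizer_oddGenerated (H : Subgroup G) : H ≤ Subgroup.normalizer (oddGenerated H : Set G) := fun h hh => by
  refine Subgroup.mem_normalizer_iff_map_conj_eq.2 (Subgroup.eq_of_le_of_card_ge ?_ (Subgroup.card_map_of_injective
    (K := oddGenerated H) (show Function.Injective (MulAut.conj h).toMonoidHom from (MulAut.conj h).injective)).ge)
  rw [oddGenerated, MonoidHom.map_closure, Subgroup.closure_le]
  rintro _ ⟨x, ⟨hx, hxo⟩, rfl⟩
  refine Subgroup.subset_closure ⟨H.mul_mem (H.mul_mem hh hx) (H.inv_mem hh), ?_⟩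
  show Odd (orderOf ((MulAut.conj h).toMonoidHom x))
  rwa [orderOf_injective _ (show Function.Injective (MulAut.conj h).toMonoidHom from (MulAut.conj h).injective)]

/-- A subgroup is generated by its odd elements and a Sylow 2-subgroup. -/
theorem oddGenerated_sup {H : Subgroup G} (T : Sylow 2 G) (hTH : (T : Subgroup G) ≤ H) :
    oddGenerated H ⊔ (T : Subgroup G) = H := by
  haveI : Fact (Nat.Prime 2) := ⟨Nat.prime_two⟩
  refine le_antisymm (sup_le (oddGenerated_le H) hTH) ?_
  set N := (oddGenerated H).subgroupOf H with hN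
  haveI : N.Normal := (Subgroup.normal_subgroupOf_iff_le_normalizer (oddGenerated_le H)).2 (le_normalizer_oddGenerated H)
  set f := QuotientGroup.mk' N with hf
  have hp : IsPGroup 2 (↥H ⧸ N) := fun q => by
    obtain ⟨x, rfl⟩ := QuotientGroup.mk'_surjective N q
    obtain ⟨k, hk⟩ := CharP.exists_pow_coprime (p := 2) x
    refine ⟨k, ?_⟩
    rw [← map_pow]
    refine (QuotientGroup.eq_one_iff _).2 (Subgroup.subset_closure ⟨(x ^ 2 ^ k).2, ?_⟩)
    show Odd (orderOf ((x ^ 2 ^ k : ↥H) : G))
    rw [Subgroup.orderOf_coe]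
    exact Nat.coprime_two_right.1 hk
  have htop : ((T.subtype hTH).mapSurjective (QuotientGroup.mk'_surjective N) : Subgroup (↥H ⧸ N)) = ⊤ :=
    Sylow.is_maximal' _ (hp.to_subgroup ⊤) le_top |>.symm
  intro x hx
  obtain ⟨t, ht, htx⟩ : f ⟨x, hx⟩ ∈ ((T.subtype hTH : Sylow 2 ↥H) : Subgroup ↥H).map f := by
    rw [← Sylow.coe_mapSurjective (QuotientGroup.mk'_surjective N), htop]
    trivial
  have h1 : (⟨x, hx⟩ : ↥H) * t⁻¹ ∈ N := by
    rw [← QuotientGroup.eq_one_iff]
    show f (_ * _) = 1
    rw [map_mul, map_inv, htx, mul_inv_cancel]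
  have := Subgroup.mul_mem _ (Subgroup.mem_sup_left (T := (T : Subgroup G)) h1)
    (Subgroup.mem_sup_right (S := oddGenerated H) (show (t : G) ∈ (T : Subgroup G) from ht))
  simpa using this

variable {X : Subgroup G}

/-- Conjugation by an element normalising `X`, on `X`. -/
noncomputable def phi {t : G} (ht : t ∈ Subgroup.normalizer (X : Set G)) : ↥X ≃* ↥X :=
  ((MulAut.conj t).subgroupMap X).trans
    (MulEquiv.subgroupCongr (Subgroup.mem_normalizer_iff_map_conj_eq.1 ht))

theorem phi_coe {t : G} (ht : t ∈ Subgroup.normalizer (X : Set G)) (y : ↥X) : (phi ht y : G) = t * y * t⁻¹ := rfl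

theorem map_phi {t : G} (ht : t ∈ Subgroup.normalizer (X : Set G)) (L : Subgroup ↥X) :
    (L.map (phi ht).toMonoidHom).map X.subtype = cj t (L.map X.subtype) := by
  rw [Subgroup.map_map, cj, Subgroup.map_map]
  congr 1

/-- An element of `X` acts as its conjugation. -/
theorem map_phi_self {s : ↥X} (hs : (s : G) ∈ Subgroup.normalizer (X : Set G)) (L : Subgroup ↥X) :
    L.map (phi hs).toMonoidHom = cj s L := by
  congr 1

section AutR

variable {S : Subgroup ↥X} {R : Subgroup G} (hS : S.map X.subtype = R)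
include hS

/-- `S` and `R` are the same group. -/
noncomputable def eqv : ↥S ≃* ↥R :=
  (S.equivMapOfInjective X.subtype X.subtype_injective).trans (MulEquiv.subgroupCongr hS)

theorem eqv_coe (x : ↥S) : (eqv hS x : G) = ((x : ↥X) : G) :=
  Subgroup.coe_equivMapOfInjective_apply S X.subtype X.subtype_injective x

theorem eqv_symm_coe (y : ↥R) : (((eqv hS).symm y : ↥X) : G) = y := by
  rw [← eqv_coe hS, MulEquiv.apply_symm_apply]

/-- Conjugation by an element normalising `R`, on `S`. -/
noncomputable def autR {g : G} (hg : g ∈ Subgroup.normalizer (R : Set G)) : MulAut ↥S :=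
  ((eqv hS).trans (phi hg)).trans (eqv hS).symm

theorem autR_coe {g : G} (hg : g ∈ Subgroup.normalizer (R : Set G)) (x : ↥S) :
    (((autR hS hg x : ↥S) : ↥X) : G) = g * ((x : ↥X) : G) * g⁻¹ := by
  show ((((eqv hS).symm (phi hg (eqv hS x))) : ↥X) : G) = _
  rw [eqv_symm_coe, phi_coe, eqv_coe]

theorem map_img {g : G} (hg : g ∈ Subgroup.normalizer (R : Set G)) {L : Subgroup ↥X} (hL : L ≤ S) :
    (img (autR hS hg) L).map X.subtype = cj g (L.map X.subtype) := by
  ext x
  constructor
  · rintro ⟨y, hy, rfl⟩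
    obtain ⟨z, hz, rfl⟩ := mem_img.1 hy
    exact ⟨_, ⟨(z : ↥X), hz, rfl⟩, (autR_coe hS hg z).symm⟩
  · rintro ⟨_, ⟨z, hz, rfl⟩, rfl⟩
    exact ⟨_, mem_img.2 ⟨⟨z, hL hz⟩, hz, rfl⟩, autR_coe hS hg ⟨z, hL hz⟩⟩

end AutR

omit [Finite G] in
theorem map_le_centralizer_iff {A B : Subgroup ↥X} :
    A.map X.subtype ≤ Subgroup.centralizer ((B.map X.subtype : Subgroup G) : Set G) ↔
      A ≤ Subgroup.centralizer (B : Set ↥X) := by
  rw [← Subgroup.commutator_eq_bot_iff_le_centralizer, ← Subgroup.commutator_eq_bot_iff_le_centralizer,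
    ← Subgroup.map_commutator, Subgroup.map_eq_bot_iff_of_injective _ X.subtype_injective]

omit [Finite G] in
theorem map_le_centralizer {A B : Subgroup ↥X} (h : A ≤ Subgroup.centralizer (B : Set ↥X)) :
    A.map X.subtype ≤ Subgroup.centralizer ((B.map X.subtype : Subgroup G) : Set G) := map_le_centralizer_iff.2 h

end Cfsg.Agent.Lib.AutPush69
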