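import Cfsg.Agent.Lib.AutPush69.Orbit
import Cfsg.Agent.Lib.AutPush69.Block
import Cfsg.Agent.Lib.AutPush69.Setup
import Cfsg.Agent.Lib.CGT57.PushOdd

/-!
# A common normal subgroup of two groups over a Sylow 2-subgroup
-/

set_option autoImplicit false
set_option linter.style.haveILetI false
set_option linter.unusedSectionVars false
set_option maxHeartbeats 1000000

open Cfsg
open scoped commutatorElement Pointwise

namespace Cfsg.Agent.Lib.AutPush69

open Cfsg.Agent.Lib.LAEven57.Blocks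
open Cfsg.Agent.Lib.CGT57 (cj mem_cj cj_cj cj_cancel cj_W1 img img_char core_eq_W1)

universe u

/-- Pushing up the normaliser of `R` from the local `C*`-theorem. -/
theorem pushUp (HS : CGT57.CStarTheorem.{u}) {G : Type u} [Group G] [Finite G]
    (hK : IsOfEvenCharacteristic G) (T : Sylow 2 G) (M H R : Subgroup G) (hTM : (T : Subgroup G) ≤ M)
    (hTH : (T : Subgroup G) ≤ H) (hHc : QTSetup.Char2.Good 2 H)
    (hU : ∃! K : Subgroup ↥H, IsCoatom K ∧ (T : Subgroup G).subgroupOf H ≤ K)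
    (hR : R ≠ ⊥) (hRT : R ≤ (T : Subgroup G))
    (hRS : ∃ P : Sylow 2 ↥(oddGenerated H ⊔ R),
      (P : Subgroup ↥(oddGenerated H ⊔ R)) = R.subgroupOf (oddGenerated H ⊔ R))
    (hMR : M ≤ Subgroup.normalizer (R : Set G)) :
    ∃ R₀ : Subgroup G, R₀ ≠ ⊥ ∧ R₀ ≤ R ∧ M ⊔ H ≤ Subgroup.normalizer (R₀ : Set G) := by
  haveI : Fact (Nat.Prime 2) := ⟨Nat.prime_two⟩
  set X := oddGenerated H ⊔ R with hXdef
  obtain ⟨S, hS⟩ := hRS
  have hRX : R ≤ X := le_sup_right
  have hSR : (S : Subgroup ↥X).map X.subtype = R := by rw [hS, Subgroup.map_subgroupOf_eq_of_le hRX]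
  have hXH : X ≤ H := sup_le (oddGenerated_le H) (hRT.trans hTH)
  have hTR : (T : Subgroup G) ≤ Subgroup.normalizer (R : Set G) := hTM.trans hMR
  have hTX : (T : Subgroup G) ≤ Subgroup.normalizer (X : Set G) :=
    Coprime.le_normalizer_sup (hTH.trans (le_normalizer_oddGenerated H)) hTR
  have hHX : X ⊔ (T : Subgroup G) = H := le_antisymm (sup_le hXH hTH)
    ((oddGenerated_sup T hTH).ge.trans (sup_le_sup_right le_sup_left _))
  have hHNX : H ≤ Subgroup.normalizer (X : Set G) := hHX.ge.trans (sup_le Subgroup.le_normalizer hTX)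
  have hG : Subgroup.centralizer (pCore 2 ↥X : Set ↥X) ≤ pCore 2 ↥X :=
    QTSetup.Char2.good_iff.1 (QTSetup.Char2.good_of_normal hXH hHNX hHc)
  have hS1 : (S : Subgroup ↥X) ≠ ⊥ := fun h => hR (by rw [← hSR, h, Subgroup.map_bot])
  have hsyl : ∀ Q : Subgroup G, IsPGroup 2 ↥Q → Q ≤ X → R ≤ Subgroup.normalizer (Q : Set G) → Q ≤ R := by
    intro Q hQ hQX hRQ
    have hp : IsPGroup 2 ↥(R ⊔ Q) := (T.isPGroup'.to_le hRT).to_sup_of_normal_right' hQ hRQ
    have h1 := S.is_maximal' (hp.comap_of_injective X.subtype X.subtype_injective)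
      (hS.le.trans (Subgroup.comap_mono le_sup_left))
    intro q hq
    have : (⟨q, hQX hq⟩ : ↥X) ∈ (S : Subgroup ↥X) := h1.le (Subgroup.mem_sup_right hq)
    rwa [hS] at this
  have hTXR : (T : Subgroup G) ⊓ X ≤ R := hsyl _ (T.isPGroup'.to_le inf_le_left) inf_le_right
    (CharP.le_normalizer_inf (hRT.trans Subgroup.le_normalizer) (hRX.trans Subgroup.le_normalizer))
  -- the maximal subgroup
  obtain ⟨K, ⟨hKc, hTK⟩, hKu⟩ := hU
  set K0 := K.map H.subtype with hK0
  have hTK0 : (T : Subgroup G) ≤ K0 := (Subgroup.map_subgroupOf_eq_of_le hTH).ge.trans (Subgroup.map_mono hTK)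
  have hXK0 : ¬ X ≤ K0 := fun h => hKc.1 (top_le_iff.1 fun x _ => by
    obtain ⟨y, hy, hyx⟩ := (sup_le h hTK0) (hHX.ge x.2)
    rwa [show x = y from Subtype.ext hyx.symm])
  -- invariant overgroups of `S`
  have hle : ∀ L : Subgroup ↥X, (S : Subgroup ↥X) ≤ L →
      (∀ t (ht : t ∈ (T : Subgroup G)), L.map (phi (hTX ht)).toMonoidHom = L) → L ≠ ⊤ →
      L.map X.subtype ≤ K0 := by
    intro L hSL hinv hL
    set L' := L.map X.subtype
    have hTL : (T : Subgroup G) ≤ Subgroup.normalizer (L' : Set G) := fun t ht =>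
      Subgroup.mem_normalizer_iff_map_conj_eq.2 (by
        show cj t L' = L'
        rw [← map_phi (hTX ht), hinv t ht])
    have hle' : L' ⊔ (T : Subgroup G) ≤ H := sup_le ((Subgroup.map_subtype_le L).trans hXH) hTH
    have hne : (L' ⊔ (T : Subgroup G)).subgroupOf H ≠ ⊤ := by
      intro e
      refine hL (top_le_iff.1 fun x _ => ?_)
      have hx : (x : G) ∈ L' ⊔ (T : Subgroup G) := by
        have := e.ge (Subgroup.mem_top (⟨(x : G), hXH x.2⟩ : ↥H))
        exact this
      rw [sup_comm] at hx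
      obtain ⟨t, ht, l, hl, e'⟩ := CGT57.exists_mul_of_mem_sup hTL hx
      have htX : t ∈ X := by
        rw [show t = (x : G) * l⁻¹ by rw [e', mul_inv_cancel_right]]
        exact X.mul_mem x.2 (X.inv_mem (Subgroup.map_subtype_le L hl))
      obtain ⟨y, hy, hyx⟩ : (x : G) ∈ L' := by
        rw [e']
        exact L'.mul_mem (Subgroup.map_mono hSL (hSR.ge (hTXR ⟨ht, htX⟩))) hl
      rwa [show x = y from Subtype.ext hyx.symm]
    obtain ⟨K', hK', hK'le⟩ := (eq_top_or_exists_le_coatom _).resolve_left hne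
    obtain rfl := hKu K' ⟨hK', (Subgroup.comap_mono le_sup_right).trans hK'le⟩
    exact le_sup_left.trans ((Subgroup.map_subgroupOf_eq_of_le hle').ge.trans (Subgroup.map_mono hK'le))
  -- characteristic subgroups of `S`
  have hchar : ∀ C : Subgroup ↥X, C ≤ (S : Subgroup ↥X) → (C.subgroupOf (S : Subgroup ↥X)).Characteristic →
      ∀ g ∈ Subgroup.normalizer (R : Set G), cj g (C.map X.subtype) = C.map X.subtype := fun C hC hc g hg => by
    rw [← map_img hSR hg hC, img_char _ hC hc]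
  by_cases hCN : ∃ C : Subgroup ↥X, C ≤ (S : Subgroup ↥X) ∧ C ≠ ⊥ ∧
      (C.subgroupOf (S : Subgroup ↥X)).Characteristic ∧ C.Normal
  · obtain ⟨C, hC, hC1, hC2, hC3⟩ := hCN
    refine ⟨C.map X.subtype, fun h => hC1 ((Subgroup.map_eq_bot_iff_of_injective _ X.subtype_injective).1 h),
      (Subgroup.map_mono hC).trans hSR.le, ?_⟩
    have hMN : M ≤ Subgroup.normalizer (C.map X.subtype : Set G) := fun g hg =>
      Subgroup.mem_normalizer_iff_map_conj_eq.2 (hchar C hC hC2 g (hMR hg))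
    refine sup_le hMN (hHX.ge.trans (sup_le ?_ (hTM.trans hMN)))
    have h := Subgroup.le_normalizer_map (H := C) X.subtype
    rwa [Subgroup.normalizer_eq_top_iff.2 hC3, ← MonoidHom.range_eq_map, Subgroup.range_subtype] at h
  push Not at hCN
  set MX := K0.comap X.subtype with hMX
  have hjoin : charNormalizersJoin (S : Subgroup ↥X) ≤ MX := iSup_le fun ⟨C, h1, h2, h3⟩ => by
    refine Subgroup.map_le_iff_le_comap.1 (hle _ ((Subgroup.normal_subgroupOf_iff_le_normalizer h1).1 inferInstance)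
      (fun t ht => ?_) fun h => hCN C h1 h2 h3 (Subgroup.normalizer_eq_top_iff.1 h))
    rw [Subgroup.map_equiv_normalizer_eq]
    congr 2
    refine Subgroup.map_injective X.subtype_injective ?_
    rw [map_phi]
    exact hchar C h1 h3 t (hTR ht)
  have hne : charNormalizersJoin (S : Subgroup ↥X) ≠ ⊤ := fun h => hXK0 fun x hx => by
    exact hjoin (h.ge (Subgroup.mem_top (⟨x, hx⟩ : ↥X)))
  have hCM : cStarOf 2 (S : Subgroup ↥X) ≤ MX := (CGT57.cStar_le_join S.isPGroup' hS1).trans hjoin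
  obtain ⟨𝓑, ⟨hblk, hconj, hcomm, hstar, hmax, -⟩, halt⟩ := CGT57.localCGT HS hG S hne
  have hsub : ∀ F ∈ 𝓑, F.IsSubnormal := fun F hF => by
    have hn : sSup 𝓑 ≤ Subgroup.normalizer (F : Set ↥X) := sSup_le fun F' hF' => by
      rcases eq_or_ne F' F with rfl | hne'
      · exact Subgroup.le_normalizer
      · exact (Subgroup.commutator_eq_bot_iff_le_centralizer.1 (hcomm F' hF' F hF hne')).trans
          (Subgroup.centralizer_le_normalizer _)
    haveI : (sSup 𝓑).Normal := ⟨fun x hx g => by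
      have hle : (sSup 𝓑).map (MulAut.conj g).toMonoidHom ≤ sSup 𝓑 := by
        rw [(Subgroup.gc_map_comap _).l_sSup]
        exact iSup₂_le fun F' hF' => le_sSup (hconj F' hF' g)
      exact hle ⟨x, hx, rfl⟩⟩
    exact Subgroup.IsSubnormal.trans (le_sSup hF)
      ((Subgroup.normal_subgroupOf_iff_le_normalizer (le_sSup hF)).2 hn).isSubnormal
      (inferInstance : (sSup 𝓑).Normal).isSubnormal
  set 𝓑₀ := {F ∈ 𝓑 | ¬ F ≤ MX} with h𝓑₀
  have hSphi : ∀ t (ht : t ∈ (T : Subgroup G)), (S : Subgroup ↥X).map (phi (hTX ht)).toMonoidHom = S := fun t ht => by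
    refine Subgroup.map_injective X.subtype_injective ?_
    rw [map_phi, hSR]
    exact Subgroup.mem_normalizer_iff_map_conj_eq.1 (hTR ht)
  -- `T` acts on the blocks outside the maximal subgroup
  have hperm : ∀ F ∈ 𝓑₀, ∀ t (ht : t ∈ (T : Subgroup G)), F.map (phi (hTX ht)).toMonoidHom ∈ 𝓑₀ := by
    intro F hF t ht
    set F' := F.map (phi (hTX ht)).toMonoidHom with hF'
    have hb : IsBaumannBlock 2 (S : Subgroup ↥X) F' := by
      have := Transport.block (phi (hTX ht)) (hblk F hF.1)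
      rwa [hSphi t ht] at this
    have hFK : ¬ F' ≤ MX := fun h => hF.2 fun x hx => by
      have h' : (phi (hTX ht) x : G) ∈ K0 := h ⟨x, hx, rfl⟩
      rw [phi_coe] at h'
      have h2 := K0.mul_mem (K0.mul_mem (K0.inv_mem (hTK0 ht)) h') (hTK0 ht)
      rwa [show t⁻¹ * (t * (x : G) * t⁻¹) * t = x by group] at h2
    obtain ⟨E', hE', hle'⟩ := hmax F' hb fun h => hFK (h.trans hCM)
    have hsn : F'.IsSubnormal := (hsub F hF.1).map (phi (hTX ht)).surjective
    rcases eq_or_commute hG ⟨S, hb⟩ ⟨S, hblk E' hE'⟩ hsn (hsub E' hE') with e | hc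
    · exact ⟨e ▸ hE', hFK⟩
    · exfalso
      refine not_centralised ⟨S, hb⟩ (((W1_le_core 2 F').trans (CharP.pCoreOf_le 2 F')).trans ?_)
      exact (Subgroup.commutator_eq_bot_iff_le_centralizer.1 hc).trans (Subgroup.centralizer_le hle')
  have hphis : ∀ (s : ↥X) (hs : s ∈ (S : Subgroup ↥X)) (L : Subgroup ↥X),
      L.map (phi (hTX (hRT (hSR.le ⟨s, hs, rfl⟩)))).toMonoidHom = cj s L := fun s hs L =>
    map_phi_self _ L
  -- stable families give invariant overgroups
  have hfam : ∀ O : Set (Subgroup ↥X), (∀ F ∈ O, ∀ t (ht : t ∈ (T : Subgroup G)),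
      F.map (phi (hTX ht)).toMonoidHom ∈ O) → sSup O ⊔ (S : Subgroup ↥X) ≠ ⊤ → sSup O ≤ MX := by
    intro O hO hO'
    refine Subgroup.map_le_iff_le_comap.1 ((Subgroup.map_mono le_sup_left).trans
      (hle _ le_sup_right (fun t ht => ?_) hO'))
    refine Subgroup.eq_of_le_of_card_ge ?_ (Subgroup.card_map_of_injective
      (show Function.Injective (phi (hTX ht)).toMonoidHom from (phi (hTX ht)).injective)).ge
    rw [Subgroup.map_sup, hSphi t ht, (Subgroup.gc_map_comap _).l_sSup]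
    exact sup_le_sup_right (iSup₂_le fun F hF => le_sSup (hO F hF t ht)) _
  have hgen : sSup 𝓑₀ ⊔ (S : Subgroup ↥X) = ⊤ := by
    by_contra h
    have h1 := hfam 𝓑₀ hperm h
    refine hXK0 fun x hx => ?_
    have h2 : cStarOf 2 (S : Subgroup ↥X) ⊔ sSup 𝓑 ≤ MX := sup_le hCM (sSup_le fun F hF => by
      by_cases hFM : F ≤ MX
      · exact hFM
      · exact (le_sSup (show F ∈ 𝓑₀ from ⟨hF, hFM⟩)).trans h1)
    exact h2 (hstar.ge (Subgroup.mem_top (⟨x, hx⟩ : ↥X)))
  obtain ⟨E, hE⟩ : 𝓑₀.Nonempty := by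
    by_contra h
    rw [Set.not_nonempty_iff_eq_empty.1 h, sSup_empty, bot_sup_eq] at hgen
    refine hCN S le_rfl hS1 ?_ (hgen ▸ inferInstance)
    rw [Subgroup.subgroupOf_self]
    infer_instance
  -- `T` is transitive on them
  have htrans : ∀ F ∈ 𝓑₀, ∃ t, ∃ ht : t ∈ (T : Subgroup G), F = E.map (phi (hTX ht)).toMonoidHom := by
    by_contra hcon
    push Not at hcon
    obtain ⟨F, hF, hFne⟩ := hcon
    set O := {F' | ∃ t, ∃ ht : t ∈ (T : Subgroup G), F' = E.map (phi (hTX ht)).toMonoidHom}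
    have hcomp : ∀ a (ha : a ∈ (T : Subgroup G)) b (hb : b ∈ (T : Subgroup G)),
        (E.map (phi (hTX hb)).toMonoidHom).map (phi (hTX ha)).toMonoidHom =
          E.map (phi (hTX (mul_mem ha hb))).toMonoidHom := fun a ha b hb => by
      refine Subgroup.map_injective X.subtype_injective ?_
      rw [map_phi, map_phi, map_phi, cj_cj]
    have hEO : E ∈ O := ⟨1, one_mem _, by
      refine Subgroup.map_injective X.subtype_injective ?_
      rw [map_phi, cj_one]⟩
    have hOB : O ⊆ 𝓑₀ := by rintro _ ⟨t, ht, rfl⟩; exact hperm E hE t ht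
    have hO : ∀ F' ∈ O, ∀ t (ht : t ∈ (T : Subgroup G)), F'.map (phi (hTX ht)).toMonoidHom ∈ O := by
      rintro _ ⟨b, hb, rfl⟩ a ha
      exact ⟨a * b, mul_mem ha hb, hcomp a ha b hb⟩
    refine hE.2 ((le_sSup hEO).trans (hfam O hO (CGT57.not_generate ⟨S, hblk F hF.1⟩ ?_ ?_)))
    · intro F' hF' s hs
      rw [← hphis s hs F']
      exact hO F' hF' (s : G) (hRT (hSR.le ⟨s, hs, rfl⟩))
    · intro F' hF'
      refine hcomm F' (hOB hF').1 F hF.1 fun e => ?_
      obtain ⟨t, ht, e'⟩ := hF'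
      exact hFne t ht (e ▸ e')
  -- the family of `E`
  obtain ⟨C⟩ := CGT57.exists_component hG (hblk E hE.1) (hsub E hE.1) (halt E hE.1)
  set O₁ := {F | ∃ s ∈ (S : Subgroup ↥X), F = cj s E}
  have hO₁ : O₁ ⊆ 𝓑₀ := by
    rintro _ ⟨s, hs, rfl⟩
    rw [← hphis s hs E]
    exact hperm E hE (s : G) (hRT (hSR.le ⟨s, hs, rfl⟩))
  let D : CGT57.Family S :=
    { 𝓑 := O₁, E := E, hE := ⟨1, one_mem _, (cj_one E).symm⟩,
      hblk := fun F hF => hblk F (hO₁ hF).1, hsub := fun F hF => hsub F (hO₁ hF).1,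
      hcomm := fun F hF F' hF' h => hcomm F (hO₁ hF).1 F' (hO₁ hF').1 h,
      hconj := by rintro _ ⟨t, ht, rfl⟩ s hs; exact ⟨s * t, mul_mem hs ht, cj_cj s t E⟩,
      htrans := fun F hF => hF, C := C }
  have hW1 : ∀ F ∈ 𝓑₀, ∀ F' ∈ 𝓑₀, W1 2 F ≤ Subgroup.centralizer (W1 2 F' : Set ↥X) := fun F hF F' hF' => by
    rcases eq_or_ne F F' with rfl | hne'
    · exact fun x hx => Subgroup.mem_centralizer_iff.2 fun y hy => W1_comm hy hx
    · exact (((W1_le_core 2 F).trans (CharP.pCoreOf_le 2 F)).trans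
        (Subgroup.commutator_eq_bot_iff_le_centralizer.1 (hcomm F hF.1 F' hF'.1 hne'))).trans
        (Subgroup.centralizer_le ((W1_le_core 2 F').trans (CharP.pCoreOf_le 2 F')))
  set J := thompsonSubgroupOf 2 (S : Subgroup ↥X)
  have hJS : J ≤ (S : Subgroup ↥X) := PGroups.thompsonSubgroupOf_le 2 _
  have hWS : D.W ≤ (S : Subgroup ↥X) := D.W_le hG
  set WG := D.W.map X.subtype with hWG
  have hZ : ¬ ⁅D.W, J⁆ ≤ Subgroup.centralizer (E : Set ↥X) := fun hle' => by
    obtain ⟨A, hA, hAW⟩ := CGT57.exists_moving_max hG S (hblk E hE.1)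
    refine hAW fun x hx => centralises_of_mod ⟨S, hblk E hE.1⟩
      (maxElemAb_le hG ⟨S, hblk E hE.1⟩ (hsub E hE.1) S hA hx) fun u hu => ?_
    rw [← commutatorElement_inv]
    exact inv_mem (hle' (Subgroup.commutator_mem_commutator (D.W1_le_W D.hE hu) (PGroups.le_thompsonSubgroupOf hA hx)))
  let cfg : Cfg T M R X :=
    { E := E.map X.subtype
      W := WG
      J := J.map X.subtype
      T_le := hTM, R_le := hRT, M_R := hMR, R_X := hRX, syl := hsyl
      J_le := (Subgroup.map_mono hJS).trans hSR.le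
      M_J := fun g hg => Subgroup.mem_normalizer_iff_map_conj_eq.2
        (hchar J hJS CGT57.thompson_char g (hMR hg))
      W_le := Subgroup.map_mono (D.W_le_thompson hG)
      E_le := Subgroup.map_subtype_le E
      E_R := by
        rw [← hSR, ← Subgroup.map_commutator]
        exact Subgroup.map_mono ((hblk E hE.1).2.1.ge.trans (Subgroup.commutator_mono le_rfl inf_le_left))
      E_odd := fun L hL => Subgroup.map_le_iff_le_comap.2 (le_of_coprime_gen ⟨S, hblk E hE.1⟩ fun e he heo =>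
        hL (e : G) ⟨e, he, rfl⟩ (by rw [Subgroup.orderOf_coe]; exact Nat.coprime_two_right.1 heo))
      hP := by
        intro P hPR hEP hRP hne'
        have hPX : P ≤ X := hPR.trans hRX
        have hPm := Subgroup.map_subgroupOf_eq_of_le hPX
        have hn : ∀ A : Subgroup ↥X, A.map X.subtype ≤ Subgroup.normalizer (P : Set G) →
            A ≤ Subgroup.normalizer (P.subgroupOf X : Set ↥X) := fun A hA a ha => by
          refine Subgroup.mem_normalizer_iff.2 fun y => ?_
          exact Subgroup.mem_normalizer_iff.1 (hA ⟨a, ha, rfl⟩) (y : G)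
        obtain ⟨h1, h2⟩ := hP D hG (P := P.subgroupOf X)
          (fun x hx => by
            obtain ⟨y, hy, hyx⟩ := hSR.ge (hPR hx)
            rwa [show x = y from Subtype.ext hyx.symm])
          (hn E hEP) (hn S (hSR.le.trans hRP)) (fun h => hne' (by
            rw [← hPm, ← Subgroup.map_commutator, h, Subgroup.map_bot]))
        refine ⟨(Subgroup.map_mono h1).trans hPm.le, ?_⟩
        rw [← hPm, ← Subgroup.map_commutator]
        exact map_le_centralizer h2
      hZ := by
        rw [← Subgroup.map_commutator]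
        exact fun h => hZ (map_le_centralizer_iff.1 h)
      hshape := by
        intro g hg hmove
        rw [← map_img hSR (hMR hg) hWS] at hmove
        obtain ⟨-, -, -, h1, h2⟩ := D.shape hG (a := autR hSR (hMR hg)) fun h => hmove (map_le_centralizer h)
        have hWJS : ⁅D.W, J⁆ ≤ (S : Subgroup ↥X) :=
          (Subgroup.commutator_mono hWS hJS).trans (Subgroup.commutator_le_self _)
        constructor
        · rw [← Subgroup.map_commutator, ← map_img hSR (hMR hg) hWJS, h1]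
        · rw [← map_img hSR (hMR hg) hWS, ← Subgroup.map_commutator, ← Subgroup.map_commutator, h2]
      hcomm := by
        intro g hg h hh hgm hhm
        rw [← map_img hSR (hMR hg) hWS] at hgm ⊢
        rw [← map_img hSR (hMR hh) hWS] at hhm ⊢
        exact map_le_centralizer (D.commute hG (fun e => hgm (map_le_centralizer e)) (D.img_W_le_thompson hG _)
          (D.img_W_normalised _) (fun y hy => D.img_W_sq _ hy) fun e => hhm (map_le_centralizer e))
      hcent := by
        rintro _ ⟨x, hx, rfl⟩ _ ⟨y, hy, rfl⟩ hxW hyW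
        have hlow : ∀ z : ↥X, (z : G) ∈ Subgroup.centralizer (WG : Set G) →
            z ∈ Subgroup.centralizer (W1 2 E : Set ↥X) := fun z hz => Subgroup.mem_centralizer_iff.2 fun w hw =>
          Subtype.ext (Subgroup.mem_centralizer_iff.1 hz _ ⟨w, D.W1_le_W D.hE hw, rfl⟩)
        have h := CGT57.comm_centralises ⟨S, hblk E hE.1⟩ (D.thompson_le_normalizer hG D.hE hx)
          (D.thompson_le_normalizer hG D.hE hy) (hlow x hxW) (hlow y hyW)
        refine Subgroup.mem_centralizer_iff.2 ?_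
        rintro _ ⟨e, he, rfl⟩
        exact congrArg Subtype.val (Subgroup.mem_centralizer_iff.1 h e he)
      hT := by
        intro t ht
        rw [← map_phi (hTX ht)]
        refine map_le_centralizer ?_
        rw [CGT57.Family.W, Subgroup.map_iSup]
        refine iSup_le fun F => ?_
        rw [Subgroup.map_iSup]
        refine iSup_le fun hF => ?_
        refine Subgroup.le_centralizer_iff.2 (iSup₂_le fun F' hF' => ?_)
        have e : (W1 2 F).map (phi (hTX ht)).toMonoidHom = W1 2 (F.map (phi (hTX ht)).toMonoidHom) := by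
          rw [W1, W1, Subgroup.map_commutator, Transport.map_omegaOneCenter, Transport.map_pCoreOf]
        rw [e]
        exact hW1 F' (hO₁ hF') _ (hperm F (hO₁ hF) t ht)
      char2 := hK }
  set U := ⨆ g : M, cj (g : G) WG with hUdef
  have hWU : WG ≤ U := (cj_one WG).ge.trans (le_iSup (fun g : M => cj (g : G) WG) 1)
  have hUJ : U ≤ J.map X.subtype := iSup_le fun g => cfg.cj_W_le_J g.2
  have hUC : ∀ t ∈ (T : Subgroup G), U ≤ Subgroup.centralizer ((cj t WG : Subgroup G) : Set G) := fun t ht =>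
    iSup_le fun g => by
      have h := le_centralizer_cj t (cfg.orbit_commute (mul_mem (inv_mem (hTM ht)) g.2))
      rwa [cj_cj, mul_inv_cancel_left] at h
  have hMU : M ≤ Subgroup.normalizer (U : Set G) := fun m hm => by
    refine Subgroup.mem_normalizer_iff_map_conj_eq.2 (Subgroup.eq_of_le_of_card_ge ?_ (Subgroup.card_map_of_injective
      (K := U) (show Function.Injective (MulAut.conj m).toMonoidHom from (MulAut.conj m).injective)).ge)
    rw [hUdef, Subgroup.map_iSup]
    refine iSup_le fun g => ?_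
    show cj m _ ≤ _
    rw [cj_cj]
    exact le_iSup (fun g : M => cj (g : G) WG) (⟨m, hm⟩ * g)
  refine ⟨U, fun h => hZ ?_, hUJ.trans ((Subgroup.map_mono hJS).trans hSR.le), sup_le hMU (hHX.ge.trans
    (sup_le ?_ (hTM.trans hMU)))⟩
  · rw [(Subgroup.map_eq_bot_iff_of_injective _ X.subtype_injective).1 (le_bot_iff.1 (hWU.trans h.le)),
      Subgroup.commutator_bot_left]
    exact bot_le
  intro x hx
  have hx' : (⟨x, hx⟩ : ↥X) ∈ sSup 𝓑₀ ⊔ (S : Subgroup ↥X) := hgen.ge (Subgroup.mem_top _)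
  suffices h : sSup 𝓑₀ ⊔ (S : Subgroup ↥X) ≤ (Subgroup.normalizer (U : Set G)).comap X.subtype from h hx'
  refine sup_le (sSup_le fun F hF => ?_) fun s hs => hMU (hTM (hRT (hSR.le ⟨s, hs, rfl⟩)))
  intro f hf
  show (f : G) ∈ Subgroup.normalizer (U : Set G)
  refine Baumann.mem_normalizer_of_forall fun y hy => ?_
  obtain ⟨u, hu, rfl⟩ := hUJ hy
  obtain ⟨t, ht, hFt⟩ := htrans F hF
  have hW1F : W1 2 F = (W1 2 E).map (phi (hTX ht)).toMonoidHom := by
    rw [hFt, W1, W1, Subgroup.map_commutator, Transport.map_omegaOneCenter, Transport.map_pCoreOf]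
  have hWF : (W1 2 F).map X.subtype ≤ cj t WG := by
    rw [hW1F, map_phi]
    exact Subgroup.map_mono (Subgroup.map_mono (D.W1_le_W D.hE))
  have hcu : u ∈ Subgroup.centralizer (W1 2 F : Set ↥X) := Subgroup.mem_centralizer_iff.2 fun w hw =>
    Subtype.ext (Subgroup.mem_centralizer_iff.1 (hUC t ht hy) _ (hWF ⟨w, hw, rfl⟩))
  have hb := comm_mem_core ⟨S, hblk F hF.1⟩
    (CGT57.Frame.thompson_le hG ⟨S, hblk F hF.1⟩ (hsub F hF.1) hu) hcu hf
  rw [core_eq_W1 ⟨S, hblk F hF.1⟩] at hb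
  have hbU : ((⁅u, f⁆ : ↥X) : G) ∈ U :=
    ((cj_mono t hWU).trans (Subgroup.mem_normalizer_iff_map_conj_eq.1 (hMU (hTM ht))).le) (hWF ⟨_, hb, rfl⟩)
  have e : (f : G) * (u : G) * (f : G)⁻¹ = ((⁅u, f⁆ : ↥X) : G)⁻¹ * (u : G) := by
    simp only [commutatorElement_def, Subgroup.coe_mul, Subgroup.coe_inv]; group
  show (f : G) * (u : G) * (f : G)⁻¹ ∈ U
  rw [e]
  exact U.mul_mem (U.inv_mem hbU) hy

end Cfsg.Agent.Lib.AutPush69
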