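import Cfsg.Agent.Lib.QTSetup.Char2
import Cfsg.Agent.Lib.CGT57.OddAut
import Cfsg.Prelude.Def_ClassificationK

/-!
# Conjugates of the module of a block under the normaliser of `R`

`W` is the module of a family of blocks in `X` with Sylow subgroup `R`, `M` normalises `R` and contains a Sylow
subgroup `T` all whose conjugates of `W` centralise `W`. In a group of even characteristic all conjugates of `W`
under `M` then centralise `W`.
-/

set_option autoImplicit false
set_option linter.style.haveILetI false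
set_option linter.unusedSectionVars false

open Cfsg
open scoped commutatorElement Pointwise

namespace Cfsg.Agent.Lib.AutPush69

open Cfsg.Agent.Lib.CGT57 (cj mem_cj cj_cj cj_cancel cj_centralizer card_relIndex)

universe u

variable {G : Type u} [Group G]

theorem cj_mono (g : G) {A B : Subgroup G} (h : A ≤ B) : cj g A ≤ cj g B := Subgroup.map_mono h

theorem cj_one (A : Subgroup G) : cj (1 : G) A = A := by ext x; rw [mem_cj]; simp

theorem cj_inv_cancel (g : G) (A : Subgroup G) : cj g⁻¹ (cj g A) = A := by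
  rw [cj_cj, inv_mul_cancel, cj_one]

theorem cj_commutator (g : G) (A B : Subgroup G) : cj g ⁅A, B⁆ = ⁅cj g A, cj g B⁆ :=
  Subgroup.map_commutator _ _ _

theorem cj_eq_of_mem [Finite G] {A : Subgroup G} {g : G} (hg : g ∈ Subgroup.normalizer (A : Set G)) : cj g A = A :=
  Subgroup.mem_normalizer_iff_map_conj_eq.1 hg

theorem le_centralizer_cj (g : G) {A B : Subgroup G} (h : A ≤ Subgroup.centralizer (B : Set G)) :
    cj g A ≤ Subgroup.centralizer ((cj g B : Subgroup G) : Set G) :=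
  (cj_mono g h).trans (cj_centralizer g B).le

theorem le_centralizer_of_cj (g : G) {A B : Subgroup G} (h : cj g A ≤ Subgroup.centralizer (B : Set G)) :
    A ≤ Subgroup.centralizer ((cj g⁻¹ B : Subgroup G) : Set G) :=
  (cj_inv_cancel g A).ge.trans (le_centralizer_cj g⁻¹ h)

/-- The data of the orbit argument. -/
structure Cfg [Finite G] (T : Sylow 2 G) (M R X : Subgroup G) where
  E : Subgroup G
  W : Subgroup G
  J : Subgroup G
  T_le : (T : Subgroup G) ≤ M
  R_le : R ≤ (T : Subgroup G)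
  M_R : M ≤ Subgroup.normalizer (R : Set G)
  R_X : R ≤ X
  syl : ∀ Q : Subgroup G, IsPGroup 2 ↥Q → Q ≤ X → R ≤ Subgroup.normalizer (Q : Set G) → Q ≤ R
  J_le : J ≤ R
  M_J : M ≤ Subgroup.normalizer (J : Set G)
  W_le : W ≤ J
  E_le : E ≤ X
  E_R : E ≤ ⁅E, R⁆
  E_odd : ∀ L : Subgroup G, (∀ e ∈ E, Odd (orderOf e) → e ∈ L) → E ≤ L
  hP : ∀ P : Subgroup G, P ≤ R → E ≤ Subgroup.normalizer (P : Set G) → R ≤ Subgroup.normalizer (P : Set G) →
    ⁅P, E⁆ ≠ ⊥ → W ≤ P ∧ ⁅W, P⁆ ≤ Subgroup.centralizer (E : Set G)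
  hZ : ¬ ⁅W, J⁆ ≤ Subgroup.centralizer (E : Set G)
  hshape : ∀ g ∈ M, ¬ cj g W ≤ Subgroup.centralizer (W : Set G) →
    cj g ⁅W, J⁆ = ⁅W, J⁆ ∧ ⁅W, cj g W⁆ = ⁅W, J⁆
  hcomm : ∀ g ∈ M, ∀ h ∈ M, ¬ cj g W ≤ Subgroup.centralizer (W : Set G) →
    ¬ cj h W ≤ Subgroup.centralizer (W : Set G) → cj h W ≤ Subgroup.centralizer (cj g W : Set G)
  hcent : ∀ x ∈ J, ∀ y ∈ J, x ∈ Subgroup.centralizer (W : Set G) → y ∈ Subgroup.centralizer (W : Set G) →
    ⁅x, y⁆ ∈ Subgroup.centralizer (E : Set G)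
  hT : ∀ t ∈ (T : Subgroup G), cj t W ≤ Subgroup.centralizer (W : Set G)
  char2 : ∀ K : Subgroup G, IsTwoLocal K → (∃ S : Sylow 2 G, (S : Subgroup G) ≤ K) → IsOfCharacteristicTwo K

namespace Cfg

variable [Finite G] {T : Sylow 2 G} {M R X : Subgroup G} (D : Cfg T M R X)

theorem cj_W_le_J {g : G} (hg : g ∈ M) : cj g D.W ≤ D.J :=
  (cj_mono g D.W_le).trans (cj_eq_of_mem (D.M_J hg)).le

theorem cj_J {g : G} (hg : g ∈ M) : cj g D.J = D.J := cj_eq_of_mem (D.M_J hg)

theorem comm_le {A B : Subgroup G} (hA : A ≤ D.J) (hB : B ≤ D.J)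
    (hA' : A ≤ Subgroup.centralizer (D.W : Set G)) (hB' : B ≤ Subgroup.centralizer (D.W : Set G)) :
    ⁅A, B⁆ ≤ Subgroup.centralizer (D.E : Set G) :=
  Subgroup.commutator_le.2 fun x hx y hy => D.hcent x (hA hx) y (hB hy) (hA' hx) (hB' hy)

theorem E_ne : D.E ≠ ⊥ := fun h => D.hZ fun x _ => Subgroup.mem_centralizer_iff.2 fun e he => by
  rw [h] at he
  rw [Subgroup.mem_bot.1 he, one_mul, mul_one]

theorem Z_ne : ⁅D.W, D.J⁆ ≠ ⊥ := fun h => D.hZ (h.le.trans bot_le)

theorem Z_le : ⁅D.W, D.J⁆ ≤ R :=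
  (Subgroup.commutator_mono (D.W_le.trans D.J_le) D.J_le).trans (Subgroup.commutator_le_self R)

/-- `E` centralises the other conjugates of `[W, J]`. -/
theorem centralises_other {g h : G} (hg : g ∈ M) (hh : h ∈ M)
    (hmove : ¬ cj g D.W ≤ Subgroup.centralizer (D.W : Set G)) (hne : cj h ⁅D.W, D.J⁆ ≠ ⁅D.W, D.J⁆) :
    cj h ⁅D.W, D.J⁆ ≤ Subgroup.centralizer (D.E : Set G) := by
  obtain ⟨hgZ, hgc⟩ := D.hshape g hg hmove
  have h1 : cj h D.W ≤ Subgroup.centralizer (D.W : Set G) := by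
    by_contra hc
    exact hne (D.hshape h hh hc).1
  have h2 : cj (h * g) D.W ≤ Subgroup.centralizer (D.W : Set G) := by
    by_contra hc
    refine hne ?_
    have := (D.hshape _ (mul_mem hh hg) hc).1
    rwa [← cj_cj, hgZ] at this
  rw [← hgc, cj_commutator, cj_cj]
  exact D.comm_le (D.cj_W_le_J hh) (D.cj_W_le_J (mul_mem hh hg)) h1 h2

/-- A 2-local of characteristic 2 containing `E` and `R` carries `W` in its core. -/
theorem core_step {Q : Subgroup G} (hQ : IsPGroup 2 ↥Q) (hRQ : R ≤ Subgroup.normalizer (Q : Set G))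
    (hQR : Q ≤ Subgroup.normalizer (R : Set G)) (hEQ : D.E ≤ Subgroup.normalizer (Q : Set G))
    (hC : ∀ e ∈ D.E, Odd (orderOf e) → e ∈ Subgroup.centralizer (Q : Set G) → e = 1) :
    D.W ≤ Q ∧ ⁅D.W, Q ⊓ R⁆ ≤ Subgroup.centralizer (D.E : Set G) := by
  set P := Q ⊓ R with hPdef
  have hPX : Q ⊓ X = P := le_antisymm (le_inf inf_le_left (D.syl _ (hQ.to_le inf_le_left) inf_le_right
    (CharP.le_normalizer_inf hRQ (D.R_X.trans Subgroup.le_normalizer)))) (inf_le_inf_left _ D.R_X)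
  have hEP : D.E ≤ Subgroup.normalizer (P : Set G) :=
    hPX ▸ CharP.le_normalizer_inf hEQ (D.E_le.trans Subgroup.le_normalizer)
  have hRP : R ≤ Subgroup.normalizer (P : Set G) := CharP.le_normalizer_inf hRQ Subgroup.le_normalizer
  by_cases hPE : ⁅P, D.E⁆ = ⊥
  · exfalso
    -- the elements acting trivially on `Q / P`
    set N := Subgroup.normalizer (Q : Set G) ⊓ Subgroup.normalizer (P : Set G) with hN
    let C : Subgroup G :=
      { carrier := {x | x ∈ N ∧ ∀ q ∈ Q, ⁅x, q⁆ ∈ P}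
        one_mem' := ⟨one_mem _, fun q _ => by rw [commutatorElement_one_left]; exact one_mem _⟩
        mul_mem' := fun {x y} hx hy => ⟨mul_mem hx.1 hy.1, fun q hq => by
          rw [show ⁅x * y, q⁆ = x * ⁅y, q⁆ * x⁻¹ * ⁅x, q⁆ by simp only [commutatorElement_def]; group]
          exact mul_mem ((Subgroup.mem_normalizer_iff.1 hx.1.2 _).1 (hy.2 q hq)) (hx.2 q hq)⟩
        inv_mem' := fun {x} hx => ⟨inv_mem hx.1, fun q hq => by
          rw [show ⁅x⁻¹, q⁆ = x⁻¹ * ⁅x, q⁆⁻¹ * x by simp only [commutatorElement_def]; group]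
          exact (Subgroup.mem_normalizer_iff''.1 hx.1.2 _).1 (inv_mem (hx.2 q hq))⟩ }
    have hRC : R ≤ C := fun r hr => ⟨⟨hRQ hr, hRP hr⟩, fun q hq => by
      refine ⟨?_, ?_⟩
      · rw [commutatorElement_def]
        exact Q.mul_mem ((Subgroup.mem_normalizer_iff.1 (hRQ hr) _).1 hq) (Q.inv_mem hq)
      · rw [show ⁅r, q⁆ = r * (q * r⁻¹ * q⁻¹) by rw [commutatorElement_def]; group]
        exact R.mul_mem hr ((Subgroup.mem_normalizer_iff.1 (hQR hq) _).1 (R.inv_mem hr))⟩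
    have hconj : ∀ n ∈ N, ∀ x ∈ C, n * x * n⁻¹ ∈ C := fun n hn x hx =>
      ⟨mul_mem (mul_mem hn hx.1) (inv_mem hn), fun q hq => by
        rw [show ⁅n * x * n⁻¹, q⁆ = n * ⁅x, n⁻¹ * q * n⁆ * n⁻¹ by simp only [commutatorElement_def]; group]
        exact (Subgroup.mem_normalizer_iff.1 hn.2 _).1 (hx.2 _ ((Subgroup.mem_normalizer_iff''.1 hn.1 q).1 hq))⟩
    have hEC : D.E ≤ C := D.E_R.trans (Subgroup.commutator_le.2 fun e he r hr => by
      rw [commutatorElement_def]
      exact C.mul_mem (hconj e ⟨hEQ he, hEP he⟩ r (hRC hr)) (C.inv_mem (hRC hr)))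
    refine D.E_ne (le_bot_iff.1 (D.E_odd ⊥ fun e he heo => Subgroup.mem_bot.2 (hC e he heo ?_)))
    refine Subgroup.mem_centralizer_iff.2 fun q hq => ?_
    set c := ⁅e, q⁆ with hc
    have hcP : c ∈ P := (hEC he).2 q hq
    have hec : e * c = c * e := (Subgroup.mem_centralizer_iff.1
      (Subgroup.commutator_eq_bot_iff_le_centralizer.1 hPE hcP) e he)
    have hk : ∀ k : ℕ, e ^ k * q * (e ^ k)⁻¹ = c ^ k * q := fun k => by
      induction k with
      | zero => simp
      | succ k ih =>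
        have hck : Commute e (c ^ k) := Commute.pow_right hec k
        calc e ^ (k + 1) * q * (e ^ (k + 1))⁻¹ = e * (e ^ k * q * (e ^ k)⁻¹) * e⁻¹ := by rw [pow_succ']; group
          _ = e * c ^ k * q * e⁻¹ := by rw [ih]; group
          _ = c ^ k * (e * q * e⁻¹) := by rw [hck.eq]; group
          _ = c ^ (k + 1) * q := by
            rw [pow_succ, show e * q * e⁻¹ = c * q by rw [hc, commutatorElement_def]; group, mul_assoc]
    have h1 := hk (orderOf e)
    rw [pow_orderOf_eq_one, one_mul, inv_one, mul_one] at h1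
    have hc1 : c ^ orderOf e = 1 := right_eq_mul.1 h1
    have : c = 1 := QTSetup.Char2.eq_one_of_coprime hQ hcP.1
      (Nat.Coprime.coprime_dvd_left (orderOf_dvd_of_pow_eq_one hc1) (Nat.coprime_two_right.2 heo))
    rw [hc] at this
    exact (commutatorElement_eq_one_iff_mul_comm.1 this).symm
  · obtain ⟨h1, h2⟩ := D.hP P inf_le_right hEP hRP hPE
    exact ⟨h1.trans inf_le_left, h2⟩

/-- The join of the conjugates of `[W, J]` under `T`. -/
noncomputable def N0 : Subgroup G := ⨆ t : (T : Subgroup G), cj (t : G) ⁅D.W, D.J⁆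

theorem N0_le : D.N0 ≤ R := iSup_le fun t =>
  (cj_mono _ D.Z_le).trans (cj_eq_of_mem (D.M_R (D.T_le t.2))).le

theorem N0_ne : D.N0 ≠ ⊥ := fun h => D.Z_ne (le_bot_iff.1 ((cj_one _).ge.trans
  ((le_iSup (fun t : (T : Subgroup G) => cj (t : G) ⁅D.W, D.J⁆) 1).trans h.le)))

theorem T_N0 : (T : Subgroup G) ≤ Subgroup.normalizer (D.N0 : Set G) := fun s hs => by
  refine Subgroup.mem_normalizer_iff_map_conj_eq.2 (Subgroup.eq_of_le_of_card_ge ?_ (Subgroup.card_map_of_injective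
    (K := D.N0) (show Function.Injective (MulAut.conj s).toMonoidHom from (MulAut.conj s).injective)).ge)
  rw [N0, Subgroup.map_iSup]
  refine iSup_le fun t => ?_
  show cj s _ ≤ _
  rw [cj_cj]
  exact le_iSup (fun t : (T : Subgroup G) => cj (t : G) ⁅D.W, D.J⁆) (⟨s, hs⟩ * t)

/-- The local at a conjugate of `N0` centralised by `E`. -/
theorem local_step {k : G} (hk : k ∈ M) (hEk : cj k D.N0 ≤ Subgroup.centralizer (D.E : Set G)) :
    let Q := QTSetup.Char2.coreP 2 (Subgroup.normalizer (cj k D.N0 : Set G))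
    D.W ≤ Q ∧ ⁅D.W, Q ⊓ R⁆ ≤ Subgroup.centralizer (D.E : Set G) := by
  intro Q
  haveI : Fact (Nat.Prime 2) := ⟨Nat.prime_two⟩
  set K := Subgroup.normalizer (cj k D.N0 : Set G) with hKdef
  have hTK : cj k (T : Subgroup G) ≤ K := (cj_mono k D.T_N0).trans (Subgroup.le_normalizer_map _)
  let Tk : Sylow 2 G := k • T
  have hTkeq : (Tk : Subgroup G) = cj k (T : Subgroup G) := by rw [Sylow.coe_subgroup_smul]; rfl
  have hchar : IsOfCharacteristicTwo K := by
    refine D.char2 K ⟨cj k D.N0, (T.isPGroup'.to_le (D.N0_le.trans D.R_le)).map _, ?_, rfl⟩ ⟨Tk, hTkeq ▸ hTK⟩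
    rw [ne_eq, cj, Subgroup.map_eq_bot_iff_of_injective _ (show Function.Injective (MulAut.conj k).toMonoidHom from
      (MulAut.conj k).injective)]
    exact D.N0_ne
  have hgood : QTSetup.Char2.Good 2 K := QTSetup.Char2.good_iff.2 hchar
  have hRK : R ≤ K := ((cj_eq_of_mem (D.M_R hk)).ge.trans (cj_mono k D.R_le)).trans hTK
  have hQT : Q ≤ cj k (T : Subgroup G) := by
    rintro _ ⟨a, ha, rfl⟩
    exact hTkeq ▸ Cores.pCore_le_sylow (Tk.subtype (hTkeq ▸ hTK)) ha
  have hTR : cj k (T : Subgroup G) ≤ Subgroup.normalizer (R : Set G) := by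
    have := (cj_mono k (D.T_le.trans D.M_R)).trans (Subgroup.le_normalizer_map (H := R) _)
    rwa [show R.map (MulAut.conj k).toMonoidHom = R from cj_eq_of_mem (D.M_R hk)] at this
  have hEK : D.E ≤ K := (Subgroup.le_centralizer_iff.1 hEk).trans (Subgroup.centralizer_le_normalizer _)
  exact D.core_step (QTSetup.Char2.coreP_isPGroup K) (hRK.trans (QTSetup.Char2.le_normalizer_coreP K))
    (hQT.trans hTR) (hEK.trans (QTSetup.Char2.le_normalizer_coreP K))
    fun e he heo hec => hgood e (hEK he) (Nat.coprime_two_right.2 heo) hec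

/-- All conjugates under `M` centralise `W`. -/
theorem orbit_commute {g : G} (hg : g ∈ M) : cj g D.W ≤ Subgroup.centralizer (D.W : Set G) := by
  by_contra hmove
  set Z := ⁅D.W, D.J⁆ with hZdef
  obtain ⟨hgZ, hgc⟩ := D.hshape g hg hmove
  -- every conjugate of `Z` is a conjugate under `T`
  have hcov : ∀ h ∈ M, ∃ t ∈ (T : Subgroup G), cj h Z = cj t Z := by
    by_contra hcon
    push Not at hcon
    obtain ⟨h, hh, hne⟩ := hcon
    have hE1 : cj h⁻¹ D.N0 ≤ Subgroup.centralizer (D.E : Set G) := by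
      rw [N0, cj, Subgroup.map_iSup]
      refine iSup_le fun t => ?_
      show cj h⁻¹ (cj (t : G) Z) ≤ _
      rw [cj_cj]
      refine D.centralises_other hg (mul_mem (inv_mem hh) (D.T_le t.2)) hmove fun e => hne t t.2 ?_
      conv_rhs => rw [← cj_cancel h (cj (t : G) Z), cj_cj h⁻¹, e]
    have hE2 : cj (g⁻¹ * h⁻¹) D.N0 ≤ Subgroup.centralizer (D.E : Set G) := by
      rw [N0, cj, Subgroup.map_iSup]
      refine iSup_le fun t => ?_
      show cj (g⁻¹ * h⁻¹) (cj (t : G) Z) ≤ _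
      rw [cj_cj]
      refine D.centralises_other hg (mul_mem (mul_mem (inv_mem hg) (inv_mem hh)) (D.T_le t.2)) hmove
        fun e => hne t t.2 ?_
      have e' : cj (h⁻¹ * (t : G)) Z = Z := by
        have := congrArg (cj g) e
        rwa [← hZdef, cj_cj, show g * (g⁻¹ * h⁻¹ * (t : G)) = h⁻¹ * t by group, hgZ] at this
      conv_rhs => rw [← cj_cancel h (cj (t : G) Z), cj_cj h⁻¹, e']
    obtain ⟨hW1, hW1'⟩ := D.local_step (inv_mem hh) hE1
    obtain ⟨hW2, -⟩ := D.local_step (mul_mem (inv_mem hg) (inv_mem hh)) hE2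
    set K1 := Subgroup.normalizer (cj h⁻¹ D.N0 : Set G)
    set K2 := Subgroup.normalizer (cj (g⁻¹ * h⁻¹) D.N0 : Set G)
    have hgK : cj g K2 ≤ K1 := by
      refine (Subgroup.le_normalizer_map (H := cj (g⁻¹ * h⁻¹) D.N0) _).trans (le_of_eq ?_)
      rw [show (cj (g⁻¹ * h⁻¹) D.N0).map (MulAut.conj g).toMonoidHom = cj h⁻¹ D.N0 from by
        show cj g _ = _
        rw [cj_cj, mul_inv_cancel_left]]
    have hKK : K1 ≤ cj g K2 := by
      have h1 : cj g⁻¹ K1 ≤ K2 := by
        refine (Subgroup.le_normalizer_map (H := cj h⁻¹ D.N0) _).trans (le_of_eq ?_)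
        rw [show (cj h⁻¹ D.N0).map (MulAut.conj g⁻¹).toMonoidHom = cj (g⁻¹ * h⁻¹) D.N0 from cj_cj _ _ _]
      exact (cj_cancel g K1).ge.trans (cj_mono g h1)
    have hcore : cj g (QTSetup.Char2.coreP 2 K2) ≤ QTSetup.Char2.coreP 2 K1 :=
      QTSetup.Char2.le_coreP ((cj_mono g (QTSetup.Char2.coreP_le K2)).trans hgK)
        (hKK.trans ((cj_mono g (QTSetup.Char2.le_normalizer_coreP K2)).trans (Subgroup.le_normalizer_map _)))
        ((QTSetup.Char2.coreP_isPGroup K2).map _)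
    refine D.hZ ?_
    rw [← hgc]
    exact (Subgroup.commutator_mono le_rfl (le_inf ((cj_mono g hW2).trans hcore)
      ((D.cj_W_le_J hg).trans D.J_le))).trans hW1'
  -- the stabiliser of `Z`
  let L : Subgroup G :=
    { carrier := {h | h ∈ M ∧ cj h Z = Z}
      one_mem' := ⟨one_mem _, cj_one _⟩
      mul_mem' := fun {a b} ha hb => ⟨mul_mem ha.1 hb.1, by rw [← cj_cj, hb.2, ha.2]⟩
      inv_mem' := fun {a} ha => ⟨inv_mem ha.1, by conv_lhs => rw [← ha.2, cj_inv_cancel]⟩ }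
  let L1 : Subgroup G :=
    { carrier := {h | h ∈ L ∧ cj h D.W ≤ Subgroup.centralizer (D.W : Set G)}
      one_mem' := ⟨one_mem L, (cj_one _).le.trans ((cj_one D.W).ge.trans (D.hT 1 (one_mem _)))⟩
      mul_mem' := fun {a b} ha hb => ⟨mul_mem ha.1 hb.1, by
        by_contra hc
        obtain ⟨-, h2⟩ := D.hshape _ (mul_mem ha.1.1 hb.1.1) hc
        refine D.hZ ?_
        have ha' : cj a⁻¹ D.W ≤ Subgroup.centralizer (D.W : Set G) := by
          exact Subgroup.le_centralizer_iff.1 (le_centralizer_of_cj a ha.2)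
        have h3 : ⁅cj a⁻¹ D.W, cj b D.W⁆ = ⁅D.W, D.J⁆ := by
          have := congrArg (cj a⁻¹) h2
          rw [cj_commutator, cj_cj, inv_mul_cancel_left] at this
          rw [this]
          exact ((inv_mem ha.1 : a⁻¹ ∈ L)).2
        rw [← h3]
        exact D.comm_le (D.cj_W_le_J (inv_mem ha.1.1)) (D.cj_W_le_J hb.1.1) ha' hb.2⟩
      inv_mem' := fun {a} ha => ⟨inv_mem ha.1, Subgroup.le_centralizer_iff.1 (le_centralizer_of_cj a ha.2)⟩ }
  have hLM : L ≤ M := fun h hh => hh.1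
  have h1L : L1 ≤ L := fun h hh => hh.1
  have hgL : g ∈ L := ⟨hg, hgZ⟩
  have hidx : L1.relIndex L = 2 := by
    rw [Subgroup.relIndex, Subgroup.index_eq_two_iff']
    refine ⟨⟨g, hgL⟩, fun b => ?_⟩
    by_cases hb1 : (b : G) ∈ L1
    · refine Or.inr ⟨hb1, fun h => hmove ?_⟩
      exact ((L1.mul_mem_cancel_right hb1).1 h).2
    · refine Or.inl ⟨?_, hb1⟩
      have hc : ¬ cj (b : G) D.W ≤ Subgroup.centralizer (D.W : Set G) := fun h => hb1 ⟨b.2, h⟩
      have hgi : ¬ cj g⁻¹ D.W ≤ Subgroup.centralizer (D.W : Set G) := fun h => hmove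
        (by simpa using Subgroup.le_centralizer_iff.1 (le_centralizer_of_cj g⁻¹ h))
      have h2 := le_centralizer_cj g (D.hcomm _ (inv_mem hg) _ b.2.1 hgi hc)
      rw [cj_cj, cj_cancel] at h2
      exact ⟨mul_mem hgL b.2, h2⟩
  have hTL : L ⊓ (T : Subgroup G) ≤ L1 := fun t ht => ⟨ht.1, D.hT t ht.2⟩
  -- counting
  have hTM := D.T_le
  have hrel : L.relIndex M = L.relIndex (T : Subgroup G) := by
    refine le_antisymm (Nat.card_le_card_of_surjective (Subgroup.quotientSubgroupOfEmbeddingOfLE L hTM) fun q => ?_)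
      (Nat.card_le_card_of_injective _ (Subgroup.quotientSubgroupOfEmbeddingOfLE L hTM).injective)
    induction q using QuotientGroup.induction_on with
    | H x =>
      obtain ⟨t, ht, hxt⟩ := hcov x x.2
      refine ⟨QuotientGroup.mk ⟨t, ht⟩, ?_⟩
      rw [Subgroup.quotientSubgroupOfEmbeddingOfLE_apply_mk, QuotientGroup.eq, Subgroup.mem_subgroupOf]
      refine ⟨mul_mem (inv_mem (hTM ht)) x.2, ?_⟩
      show cj (t⁻¹ * (x : G)) Z = Z
      rw [← cj_cj, hxt, cj_inv_cancel]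
  have c1 := card_relIndex L M
  rw [inf_eq_left.2 hLM, hrel] at c1
  have c2 := card_relIndex L (T : Subgroup G)
  have c3 := card_relIndex (T : Subgroup G) M
  rw [inf_eq_left.2 hTM] at c3
  have c4 := card_relIndex L1 L
  rw [inf_eq_left.2 h1L, hidx] at c4
  obtain ⟨m, hm⟩ := Subgroup.card_dvd_of_le hTL
  have hodd : ¬ 2 ∣ (T : Subgroup G).relIndex M :=
    by
      haveI : Fact (Nat.Prime 2) := ⟨Nat.prime_two⟩
      exact (T.subtype hTM).not_dvd_index
  refine hodd ⟨m, ?_⟩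
  have hpos : 0 < Nat.card ↥(L ⊓ (T : Subgroup G)) * L.relIndex (T : Subgroup G) := by
    rw [c2]; exact Nat.card_pos
  refine Nat.eq_of_mul_eq_mul_left hpos ?_
  calc Nat.card ↥(L ⊓ (T : Subgroup G)) * L.relIndex (T : Subgroup G) * (T : Subgroup G).relIndex M
      = Nat.card M := by rw [c2, c3]
    _ = Nat.card L * L.relIndex (T : Subgroup G) := c1.symm
    _ = _ := by rw [← c4, hm]; ring

end Cfg

end Cfsg.Agent.Lib.AutPush69
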